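import Cfsg.Agent.Lib.IsoSubgroups.Basic
import Cfsg.Agent.Lib.ZStar.Main
import Cfsg.Agent.Lib.CyclicSylow.Basic
import Cfsg.Agent.Lib.DihedralSylow.Subgroups
import Cfsg.Agent.Lib.PCore.Basic

/-!
# Groups in which `p`-subgroups of equal order are conjugate

The Sylow subgroups are cyclic, elementary abelian or quaternion of order 8. The extraspecial case
`p^{1+2}` is excluded: two transvections give an element of `N(E)` whose square inverts `E`, while
Sylow 2-subgroups cyclic or quaternion force `P ≤ O(G)` (Glauberman's `Z*`).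
-/

set_option autoImplicit false

namespace Cfsg.Agent.DGroups

open Subgroup

universe u

variable {G : Type u} [Group G] [Finite G]

/-- All `p`-subgroups of the same order are conjugate, for every prime `p`. -/
def IsD (G : Type u) [Group G] : Prop :=
  ∀ p : ℕ, p.Prime → ∀ H K : Subgroup G, IsPGroup p H → IsPGroup p K → Nat.card H = Nat.card K →
    ∃ g : G, K = H.map (MulAut.conj g).toMonoidHom

/-- Structure of the Sylow subgroups before excluding `p^{1+2}`. -/
theorem sylow_cases (hD : IsD G) {p : ℕ} [Fact p.Prime] (P : Sylow p G) :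
    IsCyclic (P : Subgroup G) ∨ ((∀ x y : (P : Subgroup G), x * y = y * x) ∧
        ∀ x : (P : Subgroup G), x ^ p = 1) ∨
      (p = 2 ∧ Nonempty ((P : Subgroup G) ≃* QuaternionGroup 2)) ∨
      (p ≠ 2 ∧ (¬ ∀ x y : (P : Subgroup G), x * y = y * x) ∧ Nat.card (P : Subgroup G) = p ^ 3 ∧
        Monoid.exponent (P : Subgroup G) = p) := by
  refine IsoSubgroups.main P.2 fun H K hHK => ?_
  set i := (P : Subgroup G).subtype with hi
  have hinj : Function.Injective i := subtype_injective _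
  obtain ⟨g, hg⟩ := hD p Fact.out (H.map i) (K.map i) ((P.2.to_subgroup H).map i)
    ((P.2.to_subgroup K).map i)
    (by rw [card_map_of_injective hinj, card_map_of_injective hinj, hHK])
  exact ⟨(H.equivMapOfInjective i hinj).trans (((H.map i).equivMapOfInjective
    (MulAut.conj g).toMonoidHom (MulAut.conj g).injective).trans ((MulEquiv.subgroupCongr hg.symm).trans
      (K.equivMapOfInjective i hinj).symm))⟩

/-- The odd normal subgroup which absorbs `x` when a `2`-element has square inverting `x`. -/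
theorem exists_odd_normal (hD : IsD G) {w : G} {x z : G} (hx2 : x * x ≠ 1)
    (hx : Odd (orderOf x)) (hz : Odd (orderOf z))
    (hwx : w ^ 2 * x * (w ^ 2)⁻¹ = x⁻¹) (hwz : w ^ 2 * z * (w ^ 2)⁻¹ = z⁻¹) :
    ∃ O : Subgroup G, O.Normal ∧ Odd (Nat.card O) ∧ x ∈ O ∧ z ∈ O := by
  classical
  haveI : Fact (Nat.Prime 2) := ⟨Nat.prime_two⟩
  let S : Sylow 2 G := default
  -- the `2`-part of `w`
  obtain ⟨s, m, hm, hwm⟩ := Nat.exists_eq_pow_mul_and_not_dvd (orderOf_pos w).ne' 2 (by norm_num)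
  obtain ⟨l, hl⟩ : Odd m := Nat.odd_iff.2 (Nat.two_dvd_ne_zero.1 hm)
  set v := w ^ m with hv
  have hv2 : IsPGroup 2 (zpowers v) := CyclicSylow.isPGroup_zpowers_of_orderOf (k := s) (by
    rw [hv, orderOf_pow, hwm, Nat.gcd_eq_right (dvd_mul_left m _),
      Nat.mul_div_cancel _ (by omega)])
  have inv_pow_odd : ∀ a : G, w ^ 2 * a * (w ^ 2)⁻¹ = a⁻¹ → v ^ 2 * a * (v ^ 2)⁻¹ = a⁻¹ := by
    intro a ha
    have key : ∀ j : ℕ, (w ^ 2) ^ (2 * j) * a * ((w ^ 2) ^ (2 * j))⁻¹ = a := by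
      intro j
      induction j with
      | zero => simp
      | succ j ih =>
        rw [show 2 * (j + 1) = 1 + 1 + 2 * j by ring, pow_add, pow_add, pow_one]
        calc w ^ 2 * w ^ 2 * (w ^ 2) ^ (2 * j) * a * (w ^ 2 * w ^ 2 * (w ^ 2) ^ (2 * j))⁻¹
            = w ^ 2 * (w ^ 2 * ((w ^ 2) ^ (2 * j) * a * ((w ^ 2) ^ (2 * j))⁻¹) * (w ^ 2)⁻¹)
              * (w ^ 2)⁻¹ := by group
          _ = w ^ 2 * a⁻¹ * (w ^ 2)⁻¹ := by rw [ih, ha]
          _ = a := by rw [← conj_inv, ha, inv_inv]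
    have e : v ^ 2 = w ^ 2 * (w ^ 2) ^ (2 * l) := by
      rw [hv, ← pow_mul, mul_comm m 2, pow_mul, hl, pow_succ']
    rw [e]
    calc w ^ 2 * (w ^ 2) ^ (2 * l) * a * (w ^ 2 * (w ^ 2) ^ (2 * l))⁻¹
        = w ^ 2 * ((w ^ 2) ^ (2 * l) * a * ((w ^ 2) ^ (2 * l))⁻¹) * (w ^ 2)⁻¹ := by group
      _ = a⁻¹ := by rw [key, ha]
  have hvx := inv_pow_odd x hwx
  have hu1 : v ^ 2 ≠ 1 := by
    intro e
    rw [e, one_mul, inv_one, mul_one] at hvx
    exact hx2 (by nth_rewrite 1 [hvx]; rw [inv_mul_cancel])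
  obtain ⟨T, hT⟩ := hv2.exists_le_sylow
  have hvT : v ∈ (T : Subgroup G) := hT (mem_zpowers v)
  rcases sylow_cases hD S with hcyc | ⟨-, hexp⟩ | ⟨-, ⟨e⟩⟩ | ⟨h2, -⟩
  · -- cyclic: normal 2-complement
    haveI := hcyc
    have hn := Transfer.hasNormalPComplement_of_normalizer_le_centralizer S
      (CyclicSylow.normalizer_le_centralizer_of S hcyc fun b hb hb2 =>
        DihedralSylow.mem_centralizer_of_isCyclic (S : Subgroup G) S.2 hb
          (Nat.odd_iff.2 (Nat.two_dvd_ne_zero.1 hb2)))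
    refine ⟨Cfsg.pResidual 2 G, Transfer.pResidual_normal 2,
      Nat.odd_iff.2 (Nat.two_dvd_ne_zero.1 (Transfer.hasNormalPComplement_iff.1 hn)),
      Transfer.mem_residual_of_coprime (Nat.coprime_two_right.2 hx),
      Transfer.mem_residual_of_coprime (Nat.coprime_two_right.2 hz)⟩
  · -- elementary: impossible
    exfalso
    have := hexp ((T.equiv S) ⟨v, hvT⟩)
    rw [← map_pow, MulEquiv.map_eq_one_iff] at this
    exact hu1 (congrArg Subtype.val this)
  · -- quaternion: `Z*`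
    have q8 : ∀ (R : Sylow 2 G), (∀ a : G, a ∈ (R : Subgroup G) → a ^ 4 = 1) ∧
        ∀ a b : G, a ∈ (R : Subgroup G) → b ∈ (R : Subgroup G) → a * a = 1 → b * b = 1 →
          a ≠ 1 → b ≠ 1 → a = b := by
      intro R
      have d1 : ∀ a : QuaternionGroup 2, a ^ 4 = 1 := by decide
      have d2 : ∀ a b : QuaternionGroup 2, a * a = 1 → b * b = 1 → a ≠ 1 → b ≠ 1 → a = b := by
        decide
      let f := (R.equiv S).trans e
      refine ⟨fun a ha => ?_, fun a b ha hb ha2 hb2 ha1 hb1 => ?_⟩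
      · have : (⟨a, ha⟩ : R) ^ 4 = 1 := f.injective (by rw [map_pow, map_one]; exact d1 _)
        exact congrArg Subtype.val this
      · have : (⟨a, ha⟩ : R) = ⟨b, hb⟩ := f.injective (d2 _ _
          (by rw [← map_mul, ← map_one f]; exact congrArg f (Subtype.ext ha2))
          (by rw [← map_mul, ← map_one f]; exact congrArg f (Subtype.ext hb2))
          (fun e' => ha1 (congrArg Subtype.val (f.map_eq_one_iff.1 e')))
          (fun e' => hb1 (congrArg Subtype.val (f.map_eq_one_iff.1 e'))))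
        exact congrArg Subtype.val this
    set u := v ^ 2 with hu
    have huu : u * u = 1 := by
      rw [hu, ← pow_add]; exact (q8 T).1 v hvT
    have hiso : Cfsg.IsIsolatedInvolution u := by
      refine ⟨orderOf_eq_prime (by rw [pow_two, huu]) hu1, fun g hg => ?_⟩
      have hg2 : g * u * g⁻¹ * (g * u * g⁻¹) = 1 := by
        rw [show g * u * g⁻¹ * (g * u * g⁻¹) = g * (u * u) * g⁻¹ by group, huu]; group
      have hp1 : ∀ a : G, a * a = 1 → IsPGroup 2 (zpowers a) := fun a ha => by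
        obtain ⟨j, -, hj⟩ := (Nat.dvd_prime_pow Nat.prime_two).1
          (orderOf_dvd_of_pow_eq_one (n := 2 ^ 1) (by rw [pow_one, pow_two, ha]) :
            orderOf a ∣ 2 ^ 1)
        exact CyclicSylow.isPGroup_zpowers_of_orderOf hj
      have hle : zpowers (g * u * g⁻¹) ≤ normalizer ((zpowers u : Subgroup G) : Set G) := by
        refine le_trans (zpowers_le.2 ?_) (centralizer_le_normalizer _)
        rw [mem_centralizer_iff]
        intro a ha
        obtain ⟨i, rfl⟩ := mem_zpowers_iff.1 ha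
        exact (hg.zpow_left i).eq
      obtain ⟨R, hR⟩ := (IsPGroup.to_sup_of_normal_left' (hp1 u huu) (hp1 _ hg2) hle).exists_le_sylow
      exact ((q8 R).2 u _ (hR (mem_sup_left (mem_zpowers u))) (hR (mem_sup_right (mem_zpowers _)))
        huu hg2 hu1 (by rw [Ne, conj_eq_one_iff]; exact hu1)).symm
    have hZ := ZStar.inZStar hiso
    have hO : Odd (Nat.card (Cfsg.pPrimeCore 2 G)) :=
      Nat.coprime_two_right.1 PCore.coprime_card_pPrimeCore
    have hmem : ∀ a : G, Odd (orderOf a) → u * a * u⁻¹ = a⁻¹ → a ∈ Cfsg.pPrimeCore 2 G := by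
      intro a ha hua
      have h1 := hZ a
      rw [show a * u * a⁻¹ * u⁻¹ = a * (u * a * u⁻¹)⁻¹ by group, hua, inv_inv] at h1
      obtain ⟨j, hj⟩ := ha
      have : a = (a * a) ^ (j + 1) := by
        rw [← pow_two, ← pow_mul, show 2 * (j + 1) = orderOf a + 1 by omega, pow_succ,
          pow_orderOf_eq_one, one_mul]
      rw [this]
      exact pow_mem h1 _
    exact ⟨Cfsg.pPrimeCore 2 G, inferInstance, hO, hmem x hx hvx,
      hmem z hz (inv_pow_odd z hwz)⟩
  · exact absurd rfl h2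

/-- Sylow subgroups are not of type `p^{1+2}`. -/
theorem not_extraspecial (hD : IsD G) {p : ℕ} [Fact p.Prime] (P : Sylow p G) (hp2 : p ≠ 2)
    (hnc : ¬ ∀ x y : (P : Subgroup G), x * y = y * x) (hcard : Nat.card (P : Subgroup G) = p ^ 3)
    (hexp : Monoid.exponent (P : Subgroup G) = p) : False := by
  classical
  have hp : p.Prime := Fact.out
  simp only [not_forall] at hnc
  obtain ⟨x', y', hxy⟩ := hnc
  have hQ : IsPGroup p (P : Subgroup G) := P.2
  have hpow : ∀ a : (P : Subgroup G), a ^ p = 1 := fun a => by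
    have := Monoid.pow_exponent_eq_one a; rwa [hexp] at this
  -- the centre of `P`
  haveI : Nontrivial (P : Subgroup G) := ⟨⟨x', 1, fun e => hxy (by rw [e, one_mul, mul_one])⟩⟩
  haveI := hQ.center_nontrivial
  have hZcard : Nat.card (center (P : Subgroup G)) = p := by
    obtain ⟨k, hk3, hk⟩ := (Nat.dvd_prime_pow hp).1
      (hcard ▸ card_subgroup_dvd_card (center (P : Subgroup G)))
    have hk0 : k ≠ 0 := fun e => by
      rw [e, pow_zero, card_eq_one] at hk
      exact not_subsingleton (center (P : Subgroup G))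
        ⟨fun a b => by
          have ha : (a : (P : Subgroup G)) ∈ (⊥ : Subgroup (P : Subgroup G)) := hk ▸ a.2
          have hb : (b : (P : Subgroup G)) ∈ (⊥ : Subgroup (P : Subgroup G)) := hk ▸ b.2
          exact Subtype.ext (by rw [mem_bot.1 ha, mem_bot.1 hb])⟩
    rcases (by omega : k = 1 ∨ 2 ≤ k) with rfl | hk2
    · rw [hk, pow_one]
    · exfalso
      have hidx := card_mul_index (center (P : Subgroup G))
      rw [hcard, hk] at hidx
      haveI : IsCyclic ((P : Subgroup G) ⧸ center (P : Subgroup G)) := by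
        rcases (by omega : k = 2 ∨ k = 3) with rfl | rfl
        · apply isCyclic_of_prime_card (p := p)
          rw [← index_eq_card]
          exact Nat.eq_of_mul_eq_mul_left (pow_pos hp.pos 2) (by rw [hidx]; ring)
        · haveI : Subsingleton ((P : Subgroup G) ⧸ center (P : Subgroup G)) := by
            refine (Nat.card_eq_one_iff_unique.1 ?_).1
            rw [← index_eq_card]
            exact Nat.eq_of_mul_eq_mul_left (pow_pos hp.pos 3) (by rw [hidx, mul_one])
          infer_instance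
      exact hxy ((MonoidHom.isMulCommutative_of_isCyclic_of_ker_le_center
        (QuotientGroup.mk' (center (P : Subgroup G))) (QuotientGroup.ker_mk' _).le).is_comm.comm x' y')
  set z' := y' * x' * y'⁻¹ * x'⁻¹ with hz'
  have hz'1 : z' ≠ 1 := fun e => hxy (by
    rw [hz', show y' * x' * y'⁻¹ * x'⁻¹ = y' * x' * (x' * y')⁻¹ by group, mul_inv_eq_one] at e
    exact e.symm)
  have hz'c : z' ∈ center (P : Subgroup G) := by
    haveI : Fact p.Prime := ⟨hp⟩
    have hq : Nat.card ((P : Subgroup G) ⧸ center (P : Subgroup G)) = p ^ 2 := by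
      have hidx := card_mul_index (center (P : Subgroup G))
      rw [hcard, hZcard, index_eq_card] at hidx
      exact Nat.eq_of_mul_eq_mul_left hp.pos (by rw [hidx]; ring)
    have := IsPGroup.isMulCommutative_of_card_eq_prime_sq hq
    rw [← QuotientGroup.eq_one_iff, hz', QuotientGroup.mk_mul, QuotientGroup.mk_mul,
      QuotientGroup.mk_mul, QuotientGroup.mk_inv, QuotientGroup.mk_inv,
      this.is_comm.comm (y' : (P : Subgroup G) ⧸ center (P : Subgroup G)) (x' : (P : Subgroup G) ⧸ center (P : Subgroup G)), mul_inv_cancel_right,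
      mul_inv_cancel]
  have hz'o : orderOf z' = p := orderOf_eq_prime (hpow z') hz'1
  have hZeq : center (P : Subgroup G) = zpowers z' := (eq_of_le_of_card_ge (zpowers_le.2 hz'c)
    (by rw [hZcard, Nat.card_zpowers, hz'o])).symm
  have hx'z : x' ∉ zpowers z' := fun h => hxy (by
    rw [← hZeq] at h; exact (mem_center_iff.1 h y').symm)
  -- into `G`
  set x : G := (x' : G) with hx
  set y : G := (y' : G) with hy
  set z : G := (z' : G) with hz
  have hxP : x ∈ (P : Subgroup G) := x'.2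
  have hyP : y ∈ (P : Subgroup G) := y'.2
  have hzP : z ∈ (P : Subgroup G) := z'.2
  have hxo : orderOf x = p := by
    rw [hx, Subgroup.orderOf_coe]
    exact orderOf_eq_prime (hpow x') fun e => hxy (by rw [e, one_mul, mul_one])
  have hzo : orderOf z = p := by rw [hz, Subgroup.orderOf_coe]; exact hz'o
  have hzc : ∀ a ∈ (P : Subgroup G), Commute a z := fun a ha =>
    congrArg Subtype.val (mem_center_iff.1 hz'c ⟨a, ha⟩)
  have hcen : ∀ c ∈ (P : Subgroup G), (∀ a ∈ (P : Subgroup G), Commute a c) → c ∈ zpowers z := by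
    intro c hc hall
    have h1 : (⟨c, hc⟩ : P) ∈ center (P : Subgroup G) :=
      mem_center_iff.2 fun a => Subtype.ext (hall a a.2)
    rw [hZeq] at h1
    obtain ⟨i, hi⟩ := mem_zpowers_iff.1 h1
    exact mem_zpowers_iff.2 ⟨i, congrArg Subtype.val hi⟩
  have hxz : x ∉ zpowers z := fun h => by
    obtain ⟨i, hi⟩ := mem_zpowers_iff.1 h
    exact hx'z (mem_zpowers_iff.2 ⟨i, Subtype.ext (by rw [SubgroupClass.coe_zpow]; exact hi)⟩)
  have hyx : y * x * y⁻¹ = z * x := by
    have : z = y * x * y⁻¹ * x⁻¹ := congrArg Subtype.val hz'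
    rw [this, inv_mul_cancel_right]
  -- `E = ⟨x, z⟩`
  have sup_card : ∀ a : G, orderOf a = p → a ∈ (P : Subgroup G) → a ∉ zpowers z →
      Nat.card ↥(zpowers a ⊔ zpowers z) = p ^ 2 := by
    intro a hao haP haz
    rw [Coprime.card_sup_of_le_normalizer, Nat.card_zpowers, Nat.card_zpowers, hao, hzo, pow_two]
    · refine le_trans (zpowers_le.2 ?_) (centralizer_le_normalizer _)
      rw [mem_centralizer_iff]
      intro b hb
      obtain ⟨i, rfl⟩ := mem_zpowers_iff.1 hb
      exact ((hzc a haP).zpow_right i).eq.symm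
    · rw [eq_bot_iff_forall]
      rintro b ⟨hb1, hb2⟩
      by_contra hb
      refine haz ?_
      have hle : zpowers b ≤ zpowers a := zpowers_le.2 hb1
      have hbo : orderOf b = p := by
        have h := orderOf_dvd_natCard (zpowers a) hb1
        rw [Nat.card_zpowers, hao] at h
        exact (hp.eq_one_or_self_of_dvd _ h).resolve_left fun e => hb (orderOf_eq_one_iff.1 e)
      have := eq_of_le_of_card_ge hle (by rw [Nat.card_zpowers, Nat.card_zpowers, hao, hbo])
      exact zpowers_le.2 hb2 (this ▸ mem_zpowers a)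
  set E := zpowers x ⊔ zpowers z with hE
  have hEP : E ≤ P := sup_le (zpowers_le.2 hxP) (zpowers_le.2 hzP)
  have hEcard := sup_card x hxo hxP hxz
  have hxE : x ∈ E := mem_sup_left (mem_zpowers x)
  have hzE : z ∈ E := mem_sup_right (mem_zpowers z)
  -- transitivity of `N(P)` on subgroups of order `p²` of `P`
  have htrans : ∀ F : Subgroup G, F ≤ P → Nat.card F = p ^ 2 →
      ∃ h ∈ normalizer ((P : Subgroup G) : Set G), E.map (MulAut.conj h).toMonoidHom = F := by
    intro F hFP hF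
    obtain ⟨g, hg⟩ := hD p hp E F (P.2.to_le hEP) (P.2.to_le hFP) (by rw [hEcard, hF])
    have hnorm : ∀ F : Subgroup G, F ≤ P → Nat.card F = p ^ 2 →
        (P : Subgroup G) ≤ normalizer (F : Set G) := by
      intro F hFP hF
      have hi : (F.subgroupOf P).index = p := by
        have h := card_mul_index (F.subgroupOf P)
        rw [Nat.card_congr (subgroupOfEquivOfLe hFP).toEquiv, hF, hcard] at h
        exact Nat.eq_of_mul_eq_mul_left (pow_pos hp.pos 2) (by rw [h]; ring)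
      haveI : (F.subgroupOf P).Normal := normal_of_index_eq_minFac_card (by
        rw [hi, hcard, hp.pow_minFac (by norm_num)])
      exact (normal_subgroupOf_iff_le_normalizer hFP).1 this
    set N := normalizer (F : Set G) with hN
    have hPN : (P : Subgroup G) ≤ N := hnorm F hFP hF
    have hgPN : ((P : Subgroup G).map (MulAut.conj g).toMonoidHom) ≤ N := by
      rintro _ ⟨a, ha, rfl⟩
      have ha' := hnorm E hEP hEcard ha
      rw [hN, mem_normalizer_iff]
      intro b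
      rw [hg, mem_map_equiv, mem_map_equiv, MulAut.conj_symm_apply, MulAut.conj_symm_apply,
        (mem_normalizer_iff.1 ha' (g⁻¹ * b * g))]
      simp only [MulEquiv.coe_toMonoidHom, MulAut.conj_apply]
      rw [show g⁻¹ * (g * a * g⁻¹ * b * (g * a * g⁻¹)⁻¹) * g = a * (g⁻¹ * b * g) * a⁻¹ by group]
    obtain ⟨S, hS⟩ := ((P.2.map (MulAut.conj g).toMonoidHom).of_equiv
      (subgroupOfEquivOfLe hgPN).symm).exists_le_sylow
    obtain ⟨c, hc⟩ := MulAction.exists_smul_eq N S (P.subtype hPN)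
    refine ⟨c * g, ?_, ?_⟩
    · have hle : (P : Subgroup G).map (MulAut.conj ((c : G) * g)).toMonoidHom ≤ P := by
        rintro _ ⟨a, ha, rfl⟩
        have h1 : (⟨g * a * g⁻¹, hgPN ⟨a, ha, rfl⟩⟩ : N) ∈ (S : Subgroup N) :=
          hS (mem_subgroupOf.2 ⟨a, ha, rfl⟩)
        have h2 := Subgroup.smul_mem_pointwise_smul _ (MulAut.conj c) (S : Subgroup N) h1
        have h3 : (MulAut.conj c • (⟨g * a * g⁻¹, hgPN ⟨a, ha, rfl⟩⟩ : N)) ∈
            ((P.subtype hPN : Sylow p N) : Subgroup N) := by rw [← hc]; exact h2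
        show (c : G) * g * a * ((c : G) * g)⁻¹ ∈ (P : Subgroup G)
        rw [show (c : G) * g * a * ((c : G) * g)⁻¹ = c * (g * a * g⁻¹) * (c : G)⁻¹ by group]
        exact h3
      have e := eq_of_le_of_card_ge hle
        (card_map_of_injective (f := (MulAut.conj ((c : G) * g)).toMonoidHom) (MulAut.conj _).injective).ge
      rw [mem_normalizer_iff]
      intro a
      constructor
      · intro ha
        exact hle ⟨a, ha, rfl⟩
      · intro ha
        rw [← e] at ha
        obtain ⟨b, hb, e'⟩ := ha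
        rwa [← (MulAut.conj _).injective (e' : (MulAut.conj ((c : G) * g)) b = (MulAut.conj ((c : G) * g)) a)]
    · rw [map_mul, show ((MulAut.conj (c : G)) * MulAut.conj g).toMonoidHom =
        (MulAut.conj (c : G)).toMonoidHom.comp (MulAut.conj g).toMonoidHom from rfl, ← map_map, ← hg]
      ext b
      rw [mem_map_equiv, MulAut.conj_symm_apply]
      have := mem_normalizer_iff.1 (inv_mem c.2 : (c : G)⁻¹ ∈ N) b
      rw [inv_inv] at this
      exact this.symm
  -- `k ∈ N(E)` moves `⟨x⟩` to `⟨z⟩`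
  obtain ⟨k, hk, i, hkx⟩ : ∃ k : G, (∀ a ∈ E, k * a * k⁻¹ ∈ E) ∧ ∃ i : ℤ, k * x * k⁻¹ = z ^ i := by
    obtain ⟨g, hg⟩ := hD p hp (zpowers x) (zpowers z) (P.2.to_le (zpowers_le.2 hxP))
      (P.2.to_le (zpowers_le.2 hzP)) (by rw [Nat.card_zpowers, Nat.card_zpowers, hxo, hzo])
    have hgx : g * x * g⁻¹ ∈ zpowers z := by rw [hg]; exact ⟨x, mem_zpowers x, rfl⟩
    set C := centralizer ({z} : Set G) with hC
    have hPC : (P : Subgroup G) ≤ C := fun a ha => mem_centralizer_singleton_iff.2 (hzc a ha).eq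
    have hEc : E.map (MulAut.conj g).toMonoidHom ≤ C := by
      rintro _ ⟨a, ha, rfl⟩
      rw [hC, mem_centralizer_singleton_iff]
      have hax : Commute a x := by
        rw [SetLike.mem_coe, hE, Coprime.mem_sup_iff_of_le_normalizer] at ha
        · obtain ⟨b, hb, c, hc, rfl⟩ := ha
          obtain ⟨i, rfl⟩ := mem_zpowers_iff.1 hb
          obtain ⟨j, rfl⟩ := mem_zpowers_iff.1 hc
          exact ((Commute.refl x).zpow_left i).mul_left (((hzc x hxP).symm).zpow_left j)
        · refine le_trans (zpowers_le.2 ?_) (centralizer_le_normalizer _)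
          rw [mem_centralizer_iff]
          intro b hb
          obtain ⟨i, rfl⟩ := mem_zpowers_iff.1 hb
          exact ((hzc x hxP).zpow_right i).eq.symm
      obtain ⟨j, hj⟩ := mem_zpowers_iff.1 (show z ∈ zpowers (g * x * g⁻¹) by
        have e := eq_of_le_of_card_ge (zpowers_le.2 hgx) (by
          rw [Nat.card_zpowers, Nat.card_zpowers, hzo, ← MulAut.conj_apply, MulEquiv.orderOf_eq, hxo])
        exact e ▸ mem_zpowers z)
      rw [← hj]
      exact (((Commute.conj_iff g).2 hax).zpow_right j).eq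
    obtain ⟨S, hS⟩ := (((P.2.to_le hEP).map (MulAut.conj g).toMonoidHom).of_equiv
      (subgroupOfEquivOfLe hEc).symm).exists_le_sylow
    obtain ⟨c, hc⟩ := MulAction.exists_smul_eq C S (P.subtype hPC)
    have hF : ∀ a ∈ E, (c : G) * g * a * ((c : G) * g)⁻¹ ∈ (P : Subgroup G) := by
      intro a ha
      have h1 : (⟨g * a * g⁻¹, hEc ⟨a, ha, rfl⟩⟩ : C) ∈ (S : Subgroup C) :=
        hS (mem_subgroupOf.2 ⟨a, ha, rfl⟩)
      have h2 := Subgroup.smul_mem_pointwise_smul _ (MulAut.conj c) (S : Subgroup C) h1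
      have h3 : (MulAut.conj c • (⟨g * a * g⁻¹, hEc ⟨a, ha, rfl⟩⟩ : C)) ∈
          ((P.subtype hPC : Sylow p C) : Subgroup C) := by rw [← hc]; exact h2
      rw [show (c : G) * g * a * ((c : G) * g)⁻¹ = c * (g * a * g⁻¹) * (c : G)⁻¹ by group]
      exact h3
    obtain ⟨h, hh, hhE⟩ := htrans (E.map (MulAut.conj ((c : G) * g)).toMonoidHom)
      (by rintro _ ⟨a, ha, rfl⟩; exact hF a ha)
      (by rw [card_map_of_injective (MulAut.conj _).injective, hEcard])
    have hcz : (c : G) * z * (c : G)⁻¹ = z := by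
      rw [(mem_centralizer_singleton_iff.1 c.2), mul_inv_cancel_right]
    obtain ⟨j, hj⟩ := mem_zpowers_iff.1 (show h⁻¹ * z * h ∈ zpowers z by
      have hh' := inv_mem hh
      refine hcen _ (by have := (mem_normalizer_iff.1 hh' z).1 hzP; rwa [inv_inv] at this)
        fun a ha => ?_
      have h1 := (hzc _ ((mem_normalizer_iff.1 hh a).1 ha))
      have h2 := (Commute.conj_iff h⁻¹).2 h1
      rw [inv_inv, show h⁻¹ * (h * a * h⁻¹) * h = a by group] at h2
      exact h2)
    obtain ⟨i, hi⟩ := mem_zpowers_iff.1 hgx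
    refine ⟨h⁻¹ * c * g, fun a ha => ?_, j * i, ?_⟩
    · have h1 : (c : G) * g * a * ((c : G) * g)⁻¹ ∈ E.map (MulAut.conj h).toMonoidHom := by
        rw [hhE]; exact ⟨a, ha, rfl⟩
      obtain ⟨b, hb, e⟩ := h1
      have e' : h * b * h⁻¹ = (c : G) * g * a * ((c : G) * g)⁻¹ := e
      rw [show h⁻¹ * (c : G) * g * a * (h⁻¹ * (c : G) * g)⁻¹ =
        h⁻¹ * ((c : G) * g * a * ((c : G) * g)⁻¹) * h by group, ← e',
        show h⁻¹ * (h * b * h⁻¹) * h = b by group]
      exact hb
    · rw [show h⁻¹ * (c : G) * g * x * (h⁻¹ * (c : G) * g)⁻¹ =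
        h⁻¹ * ((c : G) * (g * x * g⁻¹) * (c : G)⁻¹) * h by group, ← hi, ← conj_zpow, hcz,
        show h⁻¹ * z ^ i * h = h⁻¹ * z ^ i * h⁻¹⁻¹ by rw [inv_inv], ← conj_zpow, inv_inv, ← hj,
        ← zpow_mul]
  -- the transvections
  have hxz' : Commute x z := hzc x hxP
  have hyz : Commute y z := hzc y hyP
  have hzE' := hk z hzE
  rw [hE, Coprime.mem_sup_iff_of_le_normalizer] at hzE'
  swap
  · refine le_trans (zpowers_le.2 ?_) (centralizer_le_normalizer _)
    rw [mem_centralizer_iff]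
    intro b hb
    obtain ⟨i, rfl⟩ := mem_zpowers_iff.1 hb
    exact (hxz'.zpow_right i).eq.symm
  obtain ⟨_, hxa, _, hzb, hkz⟩ := hzE'
  obtain ⟨a, rfl⟩ := mem_zpowers_iff.1 hxa
  obtain ⟨b, rfl⟩ := mem_zpowers_iff.1 hzb
  have hpi : ¬ (p : ℤ) ∣ i := by
    intro hd
    rw [← hzo, orderOf_dvd_iff_zpow_eq_one] at hd
    rw [hd, conj_eq_one_iff] at hkx
    rw [hkx, orderOf_one] at hxo
    exact hp.ne_one hxo.symm
  have hpa : ¬ (p : ℤ) ∣ a := by
    intro hd
    rw [← hxo, orderOf_dvd_iff_zpow_eq_one] at hd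
    rw [hd, one_mul] at hkz
    apply hxz
    by_cases hb0 : (p : ℤ) ∣ b
    · exfalso
      rw [← hzo, orderOf_dvd_iff_zpow_eq_one] at hb0
      rw [hb0] at hkz
      rw [eq_comm, conj_eq_one_iff] at hkz
      rw [hkz, orderOf_one] at hzo
      exact hp.ne_one hzo.symm
    · obtain ⟨u', v', huv'⟩ := (Nat.prime_iff_prime_int.mp hp).coprime_iff_not_dvd.mpr hb0
      refine mem_zpowers_iff.2 ⟨v' * i, ?_⟩
      have h2 : k * z ^ (v' * i) * k⁻¹ = k * x * k⁻¹ := by
        rw [← conj_zpow, ← hkz, ← zpow_mul, hkx, ← mul_inv_eq_one, ← zpow_neg, ← zpow_add,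
          ← orderOf_dvd_iff_zpow_eq_one, hzo]
        exact ⟨-(u' * i), by linear_combination i * huv'⟩
      simpa using h2
  -- `b₀ = k⁻¹ y k` fixes `x`, moves `z`
  set b₀ := k⁻¹ * y * k with hb₀
  have hb₀x : b₀ * x * b₀⁻¹ = x := by
    rw [hb₀, show k⁻¹ * y * k * x * (k⁻¹ * y * k)⁻¹ = k⁻¹ * (y * (k * x * k⁻¹) * y⁻¹) * k by group,
      hkx, (hyz.zpow_right i).eq, mul_inv_cancel_right, ← hkx]
    group
  obtain ⟨u, i', hii'⟩ := (Nat.prime_iff_prime_int.mp hp).coprime_iff_not_dvd.mpr hpi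
  have hkinv : k⁻¹ * z * k = x ^ i' := by
    have : z = k * x ^ i' * k⁻¹ := by
      rw [← conj_zpow, hkx, ← zpow_mul]
      nth_rewrite 1 [← zpow_one z]
      rw [← mul_inv_eq_one, ← zpow_neg, ← zpow_add, ← orderOf_dvd_iff_zpow_eq_one, hzo]
      exact ⟨u, by linear_combination -hii'⟩
    rw [this]; group
  have hb₀z : b₀ * z * b₀⁻¹ = x ^ (i' * a) * z := by
    rw [hb₀, show k⁻¹ * y * k * z * (k⁻¹ * y * k)⁻¹ = k⁻¹ * (y * (k * z * k⁻¹) * y⁻¹) * k by group,
      ← hkz, ← conj_mul, ← conj_zpow, ← conj_zpow, hyx, (hxz'.symm.mul_zpow a),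
      hyz.eq, mul_inv_cancel_right, show k⁻¹ * (z ^ a * x ^ a * z ^ b) * k =
        (k⁻¹ * z ^ a * k⁻¹⁻¹) * (k⁻¹ * (x ^ a * z ^ b) * k) by group, ← conj_zpow, inv_inv, hkinv,
      hkz, ← zpow_mul]
    group
  have hpm : ¬ (p : ℤ) ∣ i' * a := by
    intro hd
    rcases (Nat.prime_iff_prime_int.mp hp).dvd_or_dvd hd with h | h
    · exact (Nat.prime_iff_prime_int.mp hp).not_dvd_one
        (by rw [← hii']; exact dvd_add (dvd_mul_left _ _) (h.mul_right _))
    · exact hpa h
  obtain ⟨u', t, htt⟩ := (Nat.prime_iff_prime_int.mp hp).coprime_iff_not_dvd.mpr hpm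
  set c := b₀ ^ (-t) with hc
  have hiter : ∀ n : ℤ, b₀ ^ n * z * (b₀ ^ n)⁻¹ = x ^ (n * (i' * a)) * z := by
    intro n
    induction n using Int.induction_on with
    | zero => simp
    | succ n ih =>
      rw [zpow_add_one, show b₀ ^ (n : ℤ) * b₀ * z * (b₀ ^ (n : ℤ) * b₀)⁻¹ =
        b₀ ^ (n : ℤ) * (b₀ * z * b₀⁻¹) * (b₀ ^ (n : ℤ))⁻¹ by group, hb₀z, ← conj_mul, ih,
        ← conj_zpow, ((show Commute b₀ x from mul_inv_eq_iff_eq_mul.1 hb₀x).zpow_left n).eq,
        mul_inv_cancel_right, ← mul_assoc, ← zpow_add]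
      congr 2; ring
    | pred n ih =>
      have h1 : b₀⁻¹ * z * b₀ = x ^ (-(i' * a)) * z := by
        have hx1 : b₀⁻¹ * x ^ (i' * a) * b₀ = x ^ (i' * a) := by
          rw [(((show Commute b₀ x from mul_inv_eq_iff_eq_mul.1 hb₀x).inv_left).zpow_right _).eq,
            inv_mul_cancel_right]
        calc b₀⁻¹ * z * b₀ = b₀⁻¹ * (x ^ (-(i' * a)) * (b₀ * z * b₀⁻¹)) * b₀ := by
              rw [hb₀z, ← mul_assoc (x ^ _), ← zpow_add, neg_add_cancel, zpow_zero, one_mul]
          _ = (b₀⁻¹ * x ^ (i' * a) * b₀)⁻¹ * z := by group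
          _ = _ := by rw [hx1, zpow_neg]
      rw [zpow_sub_one, show b₀ ^ (-(n : ℤ)) * b₀⁻¹ * z * (b₀ ^ (-(n : ℤ)) * b₀⁻¹)⁻¹ =
        b₀ ^ (-(n : ℤ)) * (b₀⁻¹ * z * b₀) * (b₀ ^ (-(n : ℤ)))⁻¹ by group, h1, ← conj_mul, ih,
        ← conj_zpow, ((show Commute b₀ x from mul_inv_eq_iff_eq_mul.1 hb₀x).zpow_left _).eq,
        mul_inv_cancel_right, ← mul_assoc, ← zpow_add]
      congr 2; ring
  have hcx : c * x * c⁻¹ = x := by
    rw [hc, ((show Commute b₀ x from mul_inv_eq_iff_eq_mul.1 hb₀x).zpow_left _).eq,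
      mul_inv_cancel_right]
  have hcz : c * z * c⁻¹ = x⁻¹ * z := by
    rw [hc, hiter]
    congr 1
    rw [← zpow_neg_one x, ← mul_inv_eq_one, ← zpow_neg, ← zpow_add, ← orderOf_dvd_iff_zpow_eq_one,
      hxo]
    exact ⟨u', by linear_combination -htt⟩
  set w := y * c * y with hw
  have hwx : w * x * w⁻¹ = z := by
    rw [hw, show y * c * y * x * (y * c * y)⁻¹ = y * (c * (y * x * y⁻¹) * c⁻¹) * y⁻¹ by group,
      hyx, ← conj_mul (b := c) (a := z) (c := x), hcz, hcx, mul_assoc x⁻¹, hxz'.eq.symm, inv_mul_cancel_left, hyz.eq,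
      mul_inv_cancel_right]
  have hwz : w * z * w⁻¹ = x⁻¹ := by
    rw [hw, show y * c * y * z * (y * c * y)⁻¹ = y * (c * (y * z * y⁻¹) * c⁻¹) * y⁻¹ by group,
      hyz.eq, mul_inv_cancel_right, hcz, ← conj_mul, ← conj_inv, hyx, hyz.eq, mul_inv_cancel_right]
    group
  have hw2x : w ^ 2 * x * (w ^ 2)⁻¹ = x⁻¹ := by
    rw [pow_two, show w * w * x * (w * w)⁻¹ = w * (w * x * w⁻¹) * w⁻¹ by group, hwx, hwz]
  have hw2z : w ^ 2 * z * (w ^ 2)⁻¹ = z⁻¹ := by
    rw [pow_two, show w * w * z * (w * w)⁻¹ = w * (w * z * w⁻¹) * w⁻¹ by group, hwz, ← conj_inv, hwx]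
  have hodd : Odd p := hp.odd_of_ne_two hp2
  have hx2 : x * x ≠ 1 := fun e => hp2 ((Nat.prime_dvd_prime_iff_eq hp Nat.prime_two).1
    (hxo ▸ orderOf_dvd_of_pow_eq_one (by rw [pow_two, e])))
  obtain ⟨O, hOn, hOodd, hxO, hzO⟩ :=
    exists_odd_normal hD hx2 (hxo ▸ hodd) (hzo ▸ hodd) hw2x hw2z
  have hEO : E ≤ O := sup_le (zpowers_le.2 hxO) (zpowers_le.2 hzO)
  have hyO : y ∈ O := by
    by_cases hyz2 : y ∈ zpowers z
    · exact zpowers_le.2 hzO hyz2
    have hyo : orderOf y = p := orderOf_eq_prime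
      (congrArg Subtype.val (hpow y')) fun e => hyz2 (e ▸ one_mem _)
    obtain ⟨g, hg⟩ := hD p hp E (zpowers y ⊔ zpowers z) (P.2.to_le hEP)
      (P.2.to_le (sup_le (zpowers_le.2 hyP) (zpowers_le.2 hzP)))
      (by rw [hEcard, sup_card y hyo hyP hyz2])
    obtain ⟨b, hb, e⟩ := hg ▸ mem_sup_left (mem_zpowers y)
    rw [← e]
    exact hOn.conj_mem b (hEO hb) g
  have hb₀O : b₀ ∈ O := by
    rw [hb₀]
    have := hOn.conj_mem y hyO k⁻¹
    rwa [inv_inv] at this
  have hwO : w ∈ O := mul_mem (mul_mem hyO (zpow_mem hb₀O _)) hyO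
  obtain ⟨l, hl⟩ := hOodd.of_dvd_nat (orderOf_dvd_natCard O hwO)
  have key : ∀ j : ℕ, (w ^ 2) ^ j * x * ((w ^ 2) ^ j)⁻¹ ∈ zpowers x := by
    intro j
    induction j with
    | zero => simp
    | succ j ih =>
      obtain ⟨r, hr⟩ := mem_zpowers_iff.1 ih
      rw [pow_succ' (w ^ 2), show w ^ 2 * (w ^ 2) ^ j * x * (w ^ 2 * (w ^ 2) ^ j)⁻¹ =
        w ^ 2 * ((w ^ 2) ^ j * x * ((w ^ 2) ^ j)⁻¹) * (w ^ 2)⁻¹ by group, ← hr, ← conj_zpow, hw2x]
      exact zpow_mem (inv_mem (mem_zpowers x)) r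
  have := key (l + 1)
  rw [← pow_mul, show 2 * (l + 1) = orderOf w + 1 by omega, pow_succ, pow_orderOf_eq_one, one_mul,
    hwx] at this
  exact hxz (by
    have e := eq_of_le_of_card_ge (zpowers_le.2 this)
      (by rw [Nat.card_zpowers, Nat.card_zpowers, hxo, hzo])
    exact e ▸ mem_zpowers x)

end Cfsg.Agent.DGroups
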